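import Mathlib

/-!
# The class number of a group of class two

`mul_kc_le` : `r k(Y) ≤ |Y| + (r - 1) |Z(Y)|` if all noncentral classes have at least `r` elements.
`kc_bound` : the bound used in the symplectic type case.
-/

set_option autoImplicit false

namespace Cfsg.Agent.H193.KGL

open Subgroup

universe u

/-- `r k(Y) ≤ |Y| + (r - 1) |Z(Y)|`. -/
theorem mul_kc_le {Y : Type u} [Group Y] [Finite Y] (r : ℕ)
    (hr : ∀ y : Y, y ∉ center Y → r ≤ (centralizer {y}).index) :
    r * Nat.card (ConjClasses Y) ≤ Nat.card Y + (r - 1) * Nat.card (center Y) := by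
  classical
  cases nonempty_fintype Y
  have h1 := card_comm_eq_card_conjClasses_mul_card Y
  have h2 : Nat.card {p : Y × Y // Commute p.1 p.2} = ∑ y : Y, Nat.card (centralizer {y}) := by
    rw [Nat.card_congr (Equiv.subtypeProdEquivSigmaSubtype (fun a b : Y => Commute a b)), Nat.card_sigma]
    refine Finset.sum_congr rfl fun y _ => ?_
    refine Nat.card_congr (Equiv.subtypeEquivRight fun z => ?_)
    rw [mem_centralizer_singleton_iff]
    exact ⟨fun h => h.symm, fun h => h.symm⟩
  have hpos : 0 < Nat.card Y := Nat.card_pos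
  have h3 : ∀ y : Y, r * Nat.card (centralizer {y}) ≤
      Nat.card Y + (if y ∈ center Y then (r - 1) * Nat.card Y else 0) := by
    intro y
    have h4 := (centralizer {y}).card_mul_index
    split_ifs with hy
    · have h5 : Nat.card (centralizer {y}) ≤ Nat.card Y := card_le_card_group _
      rcases Nat.eq_zero_or_pos r with h0 | h0
      · subst h0; simp
      · obtain ⟨s, rfl⟩ : ∃ s, r = s + 1 := ⟨r - 1, by omega⟩
        simp only [Nat.add_sub_cancel]
        nlinarith
    · have h5 := hr y hy
      rw [add_zero, ← h4, mul_comm]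
      exact Nat.mul_le_mul_left _ h5
  have h4 : r * (Nat.card (ConjClasses Y)) * Nat.card Y ≤
      (Nat.card Y + (r - 1) * Nat.card (center Y)) * Nat.card Y := by
    rw [mul_assoc, ← h1, h2, Finset.mul_sum]
    refine (Finset.sum_le_sum fun y _ => h3 y).trans ?_
    rw [Finset.sum_add_distrib, Finset.sum_const, Finset.card_univ, ← Nat.card_eq_fintype_card,
      ← Finset.sum_filter, Finset.sum_const, smul_eq_mul, smul_eq_mul]
    have h6 : (Finset.filter (fun y : Y => y ∈ center Y) Finset.univ).card = Nat.card (center Y) := by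
      rw [Nat.card_eq_fintype_card, Fintype.card_subtype]
    rw [h6]
    apply le_of_eq
    ring
  exact Nat.le_of_mul_le_mul_right h4 hpos

/-- The class number bound. -/
theorem kc_bound {Y : Type u} [Group Y] [Finite Y] {r n Q j : ℕ} (hr : r.Prime) (Y0 : Subgroup Y)
    (hY0 : Y0 ≤ center Y) (hj : Y0.index = r ^ j) (hjn : j ≤ 2 * n) (hcase : j = 2 * n → center Y ≤ Y0)
    (hQ : Nat.card Y0 ≤ Q) : r * Nat.card (ConjClasses Y) ≤ Q * (r ^ (2 * n) + r - 1) := by
  have h1 := mul_kc_le (Y := Y) r (by
    intro y hy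
    have h2 : Y0 ≤ centralizer {y} := by
      intro z hz
      rw [mem_centralizer_singleton_iff]
      exact ((mem_center_iff.1 (hY0 hz)) y).symm
    have h3 := index_dvd_of_le h2
    rw [hj] at h3
    obtain ⟨i, -, hi⟩ := (Nat.dvd_prime_pow hr).1 h3
    rw [hi]
    rcases Nat.eq_zero_or_pos i with h0 | h0
    · exfalso
      subst h0
      rw [pow_zero, index_eq_one] at hi
      apply hy
      rw [mem_center_iff]
      intro g
      have : g ∈ centralizer {y} := by rw [hi]; exact mem_top g
      exact mem_centralizer_singleton_iff.1 this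
    · exact Nat.le_self_pow h0.ne' r)
  have hcard : Nat.card Y = Nat.card Y0 * r ^ j := by rw [← hj, Y0.card_mul_index]
  have hr1 : 1 ≤ r := hr.one_lt.le
  obtain ⟨s, hs⟩ : ∃ s, r = s + 1 := ⟨r - 1, by omega⟩
  have hQ2 : Nat.card Y0 * (r ^ (2 * n) + r - 1) ≤ Q * (r ^ (2 * n) + r - 1) := Nat.mul_le_mul_right _ hQ
  refine le_trans ?_ hQ2
  have e1 : r ^ (2 * n) + r - 1 = r ^ (2 * n) + (r - 1) := by omega
  rw [e1]
  by_cases h : j = 2 * n
  · have h2 : Nat.card (center Y) ≤ Nat.card Y0 := Nat.card_le_card_of_injective _ (inclusion_injective (hcase h))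
    rw [hcard, h] at h1
    refine h1.trans ?_
    rw [mul_add, mul_comm (Nat.card Y0) (r - 1)]
    exact Nat.add_le_add_left (Nat.mul_le_mul_left _ h2) _
  · have h2 : Nat.card (center Y) ≤ Nat.card Y := card_le_card_group _
    have h3 : r * Nat.card (ConjClasses Y) ≤ r * Nat.card Y := by
      refine h1.trans ?_
      rw [hs, Nat.add_sub_cancel]
      nlinarith
    refine h3.trans ?_
    rw [hcard, mul_add]
    refine le_trans ?_ (Nat.le_add_right _ _)
    have h4 : r * r ^ j ≤ r ^ (2 * n) := by
      rw [← pow_succ']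
      exact Nat.pow_le_pow_right hr1 (by omega)
    calc r * (Nat.card Y0 * r ^ j) = Nat.card Y0 * (r * r ^ j) := by ring
      _ ≤ _ := Nat.mul_le_mul_left _ h4

end Cfsg.Agent.H193.KGL
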