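import Mathlib

/-!
# The dimension of an irreducible module of a group of class two

`exists_field` : the endomorphism field `K` of an irreducible module `W` over `ZMod p` of a group `G`; the image of `G`
spans `Module.End K W` over `K`.
-/

set_option autoImplicit false

namespace Cfsg.Agent.H193.KGL

open Module

universe u v

/-- The endomorphism field of an irreducible module, with the density theorem. -/
theorem exists_field {p : ℕ} [Fact p.Prime] {G : Type u} [Group G] {W : Type v} [AddCommGroup W]
    [Module (ZMod p) W] [Finite W] [Nontrivial W] (τ : G →* (W ≃ₗ[ZMod p] W))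
    (irr : ∀ U : Submodule (ZMod p) W, (∀ g : G, ∀ u ∈ U, τ g u ∈ U) → U = ⊥ ∨ U = ⊤) :
    ∃ (K : Type v) (_ : Field K) (_ : Finite K) (_ : Module K W),
      Nat.card K = Nat.card {f : W →ₗ[ZMod p] W // ∀ g w, f (τ g w) = τ g (f w)} ∧
      (∀ (k : K) (g : G) (w : W), k • τ g w = τ g (k • w)) ∧
      (∀ f : W →ₗ[ZMod p] W, (∀ g w, f (τ g w) = τ g (f w)) → ∃ k : K, ∀ w, f w = k • w) ∧
      (∀ f : Module.End K W, ∃ s ∈ Submodule.span (ZMod p) (Set.range fun g => (τ g : W →ₗ[ZMod p] W)),
        ∀ w, f w = s w) := by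
  classical
  cases nonempty_fintype W
  let T : G →* Module.End (ZMod p) W :=
    { toFun := fun g => (τ g : W →ₗ[ZMod p] W)
      map_one' := by rw [map_one]; rfl
      map_mul' := fun a b => by rw [map_mul]; rfl }
  let S : Subalgebra (ZMod p) (Module.End (ZMod p) W) := Algebra.adjoin (ZMod p) (MonoidHom.mrange T)
  have hTS : ∀ g, T g ∈ S := fun g => Algebra.subset_adjoin ⟨g, rfl⟩
  have hSspan : ∀ s ∈ S, s ∈ Submodule.span (ZMod p) ((MonoidHom.mrange T : Submonoid _) : Set (Module.End (ZMod p) W)) := by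
    intro s hs
    have h1 : s ∈ Subalgebra.toSubmodule S := hs
    rwa [Algebra.adjoin_eq_span, Submonoid.closure_eq] at h1
  have hsimple : IsSimpleModule S W := by
    rw [isSimpleModule_iff]
    refine { exists_pair_ne := ⟨⊥, ⊤, bot_ne_top⟩, eq_bot_or_eq_top := fun U => ?_ }
    have h1 : ∀ g : G, ∀ u ∈ U.restrictScalars (ZMod p), τ g u ∈ U.restrictScalars (ZMod p) := by
      intro g u hu
      exact U.smul_mem (⟨T g, hTS g⟩ : S) hu
    rcases irr (U.restrictScalars (ZMod p)) h1 with h2 | h2
    · left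
      exact (Submodule.restrictScalars_eq_bot_iff (ZMod p) S W).1 h2
    · right
      exact (Submodule.restrictScalars_eq_top_iff (ZMod p) S W).1 h2
  have hfinD : Finite (Module.End S W) := Finite.of_injective (fun f => (f : W → W)) DFunLike.coe_injective
  let iD : DivisionRing (Module.End S W) := Module.End.instDivisionRing
  -- endomorphisms over `S` are the linear maps commuting with `τ`
  have hto : ∀ (f : Module.End S W) (g : G) (w : W), f (τ g w) = τ g (f w) := by
    intro f g w
    exact f.map_smul (⟨T g, hTS g⟩ : S) w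
  have hfrom : ∀ f : W →ₗ[ZMod p] W, (∀ g w, f (τ g w) = τ g (f w)) →
      ∃ F : Module.End S W, ∀ w, F w = f w := by
    intro f hf
    have h1 : ∀ s : S, ∀ w, f (s • w) = s • f w := by
      rintro ⟨s, hs⟩
      have h2 := hSspan s hs
      change ∀ w, f (s w) = s (f w)
      induction h2 using Submodule.span_induction with
      | mem x hx =>
        obtain ⟨g, rfl⟩ := hx
        intro w
        exact hf g w
      | zero => intro w; simp
      | add x y hx hy h3 h4 =>
        intro w
        have h5 := h3 (by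
          have h6 := Algebra.adjoin_eq_span (R := ZMod p) (s := ((MonoidHom.mrange T : Submonoid _) : Set (Module.End (ZMod p) W)))
          rw [Submonoid.closure_eq] at h6
          have h7 : x ∈ Subalgebra.toSubmodule S := by rw [h6]; exact hx
          exact h7) w
        have h5' := h4 (by
          have h6 := Algebra.adjoin_eq_span (R := ZMod p) (s := ((MonoidHom.mrange T : Submonoid _) : Set (Module.End (ZMod p) W)))
          rw [Submonoid.closure_eq] at h6
          have h7 : y ∈ Subalgebra.toSubmodule S := by rw [h6]; exact hy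
          exact h7) w
        rw [LinearMap.add_apply, LinearMap.add_apply, map_add, h5, h5']
      | smul c x hx h3 =>
        intro w
        have h5 := h3 (by
          have h6 := Algebra.adjoin_eq_span (R := ZMod p) (s := ((MonoidHom.mrange T : Submonoid _) : Set (Module.End (ZMod p) W)))
          rw [Submonoid.closure_eq] at h6
          have h7 : x ∈ Subalgebra.toSubmodule S := by rw [h6]; exact hx
          exact h7) w
        rw [LinearMap.smul_apply, LinearMap.smul_apply, map_smul, h5]
    exact ⟨{ toFun := f, map_add' := f.map_add, map_smul' := h1 }, fun w => rfl⟩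
  refine ⟨Module.End S W, littleWedderburn (Module.End S W), hfinD, Module.End.applyModule, ?_, ?_, ?_, ?_⟩
  · refine Nat.card_congr (Equiv.ofBijective (fun F => ⟨F.restrictScalars (ZMod p), hto F⟩) ⟨?_, ?_⟩)
    · intro F F' h
      ext w
      exact congrArg (fun z : {f : W →ₗ[ZMod p] W // ∀ g w, f (τ g w) = τ g (f w)} => z.1 w) h
    · rintro ⟨f, hf⟩
      obtain ⟨F, hF⟩ := hfrom f hf
      refine ⟨F, Subtype.ext ?_⟩
      ext w
      exact hF w
  · intro k g w
    exact hto k g w
  · intro f hf
    obtain ⟨F, hF⟩ := hfrom f hf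
    exact ⟨F, fun w => (hF w).symm⟩
  · intro f
    obtain ⟨s, hs⟩ := jacobson_density (R := S) (M := W) f Finset.univ
    exact ⟨s.1, hSspan s.1 s.2, fun w => hs w (Finset.mem_univ w)⟩

/-- The image of `G` spans the `K`-linear maps. -/
theorem span_top {p : ℕ} [Fact p.Prime] {G : Type u} [Group G] {W : Type v} [AddCommGroup W]
    [Module (ZMod p) W] (τ : G →* (W ≃ₗ[ZMod p] W)) {K : Type v} [Field K] [Module K W]
    (hc : ∀ (k : K) (g : G) (w : W), k • τ g w = τ g (k • w))
    (hd : ∀ f : Module.End K W, ∃ s ∈ Submodule.span (ZMod p) (Set.range fun g => (τ g : W →ₗ[ZMod p] W)),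
        ∀ w, f w = s w) (f : Module.End K W) :
    f ∈ Submodule.span K {h : Module.End K W | ∃ g, ∀ w, h w = τ g w} := by
  obtain ⟨s, hs, hf⟩ := hd f
  have key : ∃ h : Module.End K W, (∀ w, h w = s w) ∧
      h ∈ Submodule.span K {h : Module.End K W | ∃ g, ∀ w, h w = τ g w} := by
    clear hf
    induction hs using Submodule.span_induction with
    | mem x hx =>
      obtain ⟨g, rfl⟩ := hx
      exact ⟨{ toFun := τ g, map_add' := map_add _, map_smul' := fun k w => (hc k g w).symm }, fun w => rfl,
        Submodule.subset_span ⟨g, fun w => rfl⟩⟩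
    | zero => exact ⟨0, fun w => rfl, Submodule.zero_mem _⟩
    | add x y _ _ h3 h4 =>
      obtain ⟨h1, e1, m1⟩ := h3
      obtain ⟨h2, e2, m2⟩ := h4
      exact ⟨h1 + h2, fun w => by rw [LinearMap.add_apply, LinearMap.add_apply, e1, e2], Submodule.add_mem _ m1 m2⟩
    | smul c x _ h3 =>
      obtain ⟨h1, e1, m1⟩ := h3
      refine ⟨((c.val : ℕ) : K) • h1, fun w => ?_, Submodule.smul_mem _ _ m1⟩
      rw [LinearMap.smul_apply, LinearMap.smul_apply, e1, Nat.cast_smul_eq_nsmul]
      conv_rhs => rw [← ZMod.natCast_zmod_val c]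
      rw [Nat.cast_smul_eq_nsmul]
  obtain ⟨h, e, m⟩ := key
  have : f = h := by
    ext w
    rw [hf, e]
  rw [this]
  exact m

theorem comm_eq_aux {G : Type u} [Group G] {x c c' z : G} (hz : ∀ g, g * z = z * g)
    (h1 : x * c * x⁻¹ * c⁻¹ = z) (h2 : x * c' * x⁻¹ * c'⁻¹ = z) : x * (c * c'⁻¹) = (c * c'⁻¹) * x := by
  have e1 : x * c = z * c * x := by rw [← h1]; group
  have e2 : x * c' = c' * (z * x) := by
    calc x * c' = (x * c' * x⁻¹ * c'⁻¹) * c' * x := by group
      _ = z * c' * x := by rw [h2]
      _ = c' * z * x := by rw [hz c']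
      _ = _ := by group
  have e3 : x * c'⁻¹ = z⁻¹ * c'⁻¹ * x := by
    have e4 : c'⁻¹ * x = z * x * c'⁻¹ := by
      calc c'⁻¹ * x = c'⁻¹ * (x * c') * c'⁻¹ := by group
        _ = c'⁻¹ * (c' * (z * x)) * c'⁻¹ := by rw [e2]
        _ = _ := by group
    calc x * c'⁻¹ = z⁻¹ * (z * x * c'⁻¹) := by group
      _ = z⁻¹ * (c'⁻¹ * x) := by rw [e4]
      _ = _ := by group
  calc x * (c * c'⁻¹) = (x * c) * c'⁻¹ := by group
    _ = z * c * (x * c'⁻¹) := by rw [e1]; group
    _ = c * z * (z⁻¹ * c'⁻¹ * x) := by rw [e3, hz c]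
    _ = (c * c'⁻¹) * x := by group

/-- A group of class two, the image of which spans `Module.End K W`. -/
theorem dim_sq {G : Type u} [Group G] [Finite G] {W : Type v} [AddCommGroup W] [Nontrivial W] {K : Type v} [Field K]
    [Finite K] [Module K W] [Finite W] (T : G →* Module.End K W)
    (hspan : ∀ f : Module.End K W, f ∈ Submodule.span K (Set.range T))
    (hinj : Function.Injective T)
    (hcomm : ∀ x y : G, x * y * x⁻¹ * y⁻¹ ∈ Subgroup.center G)
    (hsc : ∀ a ∈ Subgroup.center G, ∃ k : K, ∀ w, T a w = k • w) :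
    Nat.card G = (Module.finrank K W) ^ 2 * Nat.card (Subgroup.center G) := by
  classical
  cases nonempty_fintype G
  obtain ⟨w0, hw0⟩ := exists_ne (0 : W)
  have hK : ∀ k k' : K, k • w0 = k' • w0 → k = k' := fun k k' h => smul_left_injective K hw0 h
  choose! κ hκ using hsc
  -- the characters
  let χ : G → (G →* K) := fun c =>
    { toFun := fun x => κ (x * c * x⁻¹ * c⁻¹)
      map_one' := by
        apply hK
        rw [← hκ _ (hcomm 1 c)]
        simp
      map_mul' := by
        intro x y
        apply hK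
        rw [← hκ _ (hcomm (x * y) c)]
        have e1 : x * y * c * (x * y)⁻¹ * c⁻¹ = (x * c * x⁻¹ * c⁻¹) * (y * c * y⁻¹ * c⁻¹) := by
          have h2 := Subgroup.mem_center_iff.1 (hcomm y c) (x)
          have h3 : x * y * c * (x * y)⁻¹ * c⁻¹ = (x * (y * c * y⁻¹ * c⁻¹)) * (c * x⁻¹ * c⁻¹) := by group
          rw [h3, h2]
          have h4 := Subgroup.mem_center_iff.1 (hcomm y c) (x * c * x⁻¹ * c⁻¹)
          rw [h4]
          group
        rw [e1, map_mul, Module.End.mul_apply, hκ _ (hcomm y c), map_smul, hκ _ (hcomm x c), smul_smul, mul_comm] }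
  have hχ : ∀ c x w, T (x * c * x⁻¹ * c⁻¹) w = χ c x • w := fun c x w => hκ _ (hcomm x c) w
  have hχinj : ∀ c c' : G, χ c = χ c' → c * c'⁻¹ ∈ Subgroup.center G := by
    intro c c' h
    rw [Subgroup.mem_center_iff]
    intro x
    refine comm_eq_aux (z := x * c * x⁻¹ * c⁻¹) (fun g => Subgroup.mem_center_iff.1 (hcomm x c) g) rfl ?_
    apply hinj
    ext w
    rw [hχ, hχ, h]
  -- the basis
  let ι := G ⧸ Subgroup.center G
  let v : ι → Module.End K W := fun i => T i.out
  have hTinv : ∀ g w, T g (T g⁻¹ w) = w := by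
    intro g w
    rw [← Module.End.mul_apply, ← map_mul, mul_inv_cancel, map_one, Module.End.one_apply]
  have hv0 : ∀ i, v i ≠ 0 := by
    intro i h
    have := hTinv i.out w0
    change v i _ = _ at this
    rw [h, LinearMap.zero_apply] at this
    exact hw0 this.symm
  have hli : LinearIndependent K v := by
    rw [Fintype.linearIndependent_iff]
    intro g hg
    have h1 : ∀ x : G, ∑ i, (g i * χ i.out x) • v i = 0 := by
      intro x
      have h2 : ∑ i, (g i * χ i.out x) • v i = T x * (∑ i, g i • v i) * T x⁻¹ := by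
        rw [Finset.mul_sum, Finset.sum_mul]
        refine Finset.sum_congr rfl fun i _ => ?_
        ext w
        have h3 : T x * g i • v i * T x⁻¹ = g i • T (x * i.out * x⁻¹) := by
          rw [mul_smul_comm, smul_mul_assoc, map_mul, map_mul]
        have h4 : x * i.out * x⁻¹ = (x * i.out * x⁻¹ * (i.out)⁻¹) * i.out := by group
        rw [h3, LinearMap.smul_apply, LinearMap.smul_apply, h4, map_mul, Module.End.mul_apply, hχ, smul_smul]
      rw [h2, hg, mul_zero, zero_mul]
    have h5 : ∀ (φ : Module.Dual K (Module.End K W)) (i : ι), g i * φ (v i) = 0 := by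
      intro φ
      have h6 : LinearIndependent K (fun i : ι => ((χ i.out : G →* K) : G → K)) := by
        refine (linearIndependent_monoidHom G K).comp (fun i : ι => χ i.out) ?_
        intro i j hij
        have h7 := hχinj _ _ hij
        have h8 : (i.out : G ⧸ Subgroup.center G) = (j.out : G ⧸ Subgroup.center G) := by
          rw [QuotientGroup.eq]
          have h9 := Subgroup.Normal.conj_mem (inferInstance : (Subgroup.center G).Normal) _ h7 (i.out)⁻¹
          have h10 : (i.out)⁻¹ * (i.out * (j.out)⁻¹) * (i.out)⁻¹⁻¹ = ((i.out)⁻¹ * j.out)⁻¹ := by group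
          rw [h10] at h9
          exact (Subgroup.inv_mem_iff _).1 h9
        rwa [QuotientGroup.out_eq', QuotientGroup.out_eq'] at h8
      rw [Fintype.linearIndependent_iff] at h6
      refine h6 (fun i => g i * φ (v i)) ?_
      ext x
      have h7 := congrArg φ (h1 x)
      rw [map_sum, map_zero] at h7
      rw [Finset.sum_apply, Pi.zero_apply, ← h7]
      refine Finset.sum_congr rfl fun i _ => ?_
      rw [Pi.smul_apply, smul_eq_mul, map_smul, smul_eq_mul]
      ring
    intro i
    by_contra hgi
    apply hv0 i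
    rw [← Module.forall_dual_apply_eq_zero_iff K]
    intro φ
    rcases mul_eq_zero.1 (h5 φ i) with h | h
    · exact absurd h hgi
    · exact h
  have hsp : ⊤ ≤ Submodule.span K (Set.range v) := by
    intro f _
    have h1 := hspan f
    refine Submodule.span_le.2 ?_ h1
    rintro _ ⟨g, rfl⟩
    have h2 : g * ((QuotientGroup.mk g : ι).out)⁻¹ ∈ Subgroup.center G := by
      have h3 : ((QuotientGroup.mk g : ι).out : G ⧸ Subgroup.center G) = (g : G ⧸ Subgroup.center G) :=
        QuotientGroup.out_eq' _
      rw [QuotientGroup.eq] at h3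
      have h9 := Subgroup.Normal.conj_mem (inferInstance : (Subgroup.center G).Normal) _ h3
        ((QuotientGroup.mk g : ι).out)
      have h10 : (QuotientGroup.mk g : ι).out * (((QuotientGroup.mk g : ι).out)⁻¹ * g) *
          ((QuotientGroup.mk g : ι).out)⁻¹ = g * ((QuotientGroup.mk g : ι).out)⁻¹ := by group
      rwa [h10] at h9
    have h4 : T g = κ (g * ((QuotientGroup.mk g : ι).out)⁻¹) • v (QuotientGroup.mk g) := by
      ext w
      rw [LinearMap.smul_apply, ← hκ _ h2, ← Module.End.mul_apply]
      change _ = (T _ * T _) w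
      rw [← map_mul]
      congr 2
      group
    rw [SetLike.mem_coe, h4]
    exact Submodule.smul_mem _ _ (Submodule.subset_span ⟨_, rfl⟩)
  let b := Basis.mk hli hsp
  have h1 : Module.finrank K (Module.End K W) = Nat.card ι := by
    rw [Module.finrank_eq_nat_card_basis b]
  rw [Module.finrank_linearMap] at h1
  rw [Subgroup.card_eq_card_quotient_mul_card_subgroup (Subgroup.center G), ← h1, pow_two]

/-- The order of an irreducible linear group of class two and the order of its module. -/
theorem dim_struct {p : ℕ} [Fact p.Prime] {G : Type u} [Group G] [Finite G] {W : Type v} [AddCommGroup W]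
    [Module (ZMod p) W] [Finite W] [Nontrivial W] (τ : G →* (W ≃ₗ[ZMod p] W)) (hinj : Function.Injective τ)
    (irr : ∀ U : Submodule (ZMod p) W, (∀ g : G, ∀ u ∈ U, τ g u ∈ U) → U = ⊥ ∨ U = ⊤)
    (hcomm : ∀ x y : G, x * y * x⁻¹ * y⁻¹ ∈ Subgroup.center G) :
    ∃ d : ℕ, Nat.card G = d ^ 2 * Nat.card (Subgroup.center G) ∧
      Nat.card W = (Nat.card {f : W →ₗ[ZMod p] W // ∀ g w, f (τ g w) = τ g (f w)}) ^ d := by
  obtain ⟨K, iF, iFin, iM, hcard, hc, hex, hd⟩ := exists_field τ irr
  let T : G →* Module.End K W :=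
    { toFun := fun g => { toFun := τ g, map_add' := map_add _, map_smul' := fun k w => (hc k g w).symm }
      map_one' := by
        ext w
        change τ 1 w = w
        rw [map_one]; rfl
      map_mul' := fun a b => by
        ext w
        change τ (a * b) w = τ a (τ b w)
        rw [map_mul]; rfl }
  have hT : ∀ g w, T g w = τ g w := fun g w => rfl
  refine ⟨Module.finrank K W, dim_sq T ?_ ?_ hcomm ?_, ?_⟩
  · intro f
    have h1 := span_top τ hc hd f
    refine Submodule.span_mono ?_ h1
    rintro h ⟨g, hg⟩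
    refine ⟨g, ?_⟩
    ext w
    rw [hg w, hT]
  · intro g g' h
    apply hinj
    ext w
    rw [← hT, ← hT, h]
  · intro a ha
    refine hex (τ a : W →ₗ[ZMod p] W) ?_
    intro g w
    change τ a (τ g w) = τ g (τ a w)
    rw [← LinearEquiv.mul_apply, ← LinearEquiv.mul_apply, ← map_mul, ← map_mul, Subgroup.mem_center_iff.1 ha g]
  · rw [← hcard]
    exact Module.natCard_eq_pow_finrank

/-- A group of linear maps commuting with an irreducible group is cyclic. -/
theorem cyclic_of_comm {p : ℕ} [Fact p.Prime] {G : Type u} [Group G] {W : Type v} [AddCommGroup W]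
    [Module (ZMod p) W] [Finite W] [Nontrivial W] (τ : G →* (W ≃ₗ[ZMod p] W)) (hinj : Function.Injective τ)
    (M Z : Subgroup G)
    (irr : ∀ U : Submodule (ZMod p) W, (∀ g ∈ M, ∀ u ∈ U, τ g u ∈ U) → U = ⊥ ∨ U = ⊤)
    (hcomm : ∀ x ∈ Z, ∀ y ∈ M, x * y = y * x) :
    IsCyclic Z ∧
      Nat.card Z ∣ Nat.card {f : W →ₗ[ZMod p] W // ∀ g ∈ M, ∀ w, f (τ g w) = τ g (f w)} - 1 := by
  obtain ⟨K, iF, iFin, iM, hcard, hc, hex, hd⟩ := exists_field (τ.comp M.subtype) (by
    intro U hU
    exact irr U fun g hg u hu => hU ⟨g, hg⟩ u hu)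
  obtain ⟨w0, hw0⟩ := exists_ne (0 : W)
  have hK : ∀ k k' : K, k • w0 = k' • w0 → k = k' := fun k k' h => smul_left_injective K hw0 h
  have h1 : ∀ z : Z, ∃ k : K, ∀ w, τ z w = k • w := by
    intro z
    refine hex (τ z : W →ₗ[ZMod p] W) ?_
    intro g w
    change τ z (τ g w) = τ g (τ z w)
    rw [← LinearEquiv.mul_apply, ← LinearEquiv.mul_apply, ← map_mul, ← map_mul, hcomm z z.2 g g.2]
  choose κ hκ using h1
  let F : Z →* K :=
    { toFun := κ
      map_one' := by
        apply hK
        rw [← hκ]
        simp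
      map_mul' := by
        intro x y
        apply hK
        rw [← hκ, Subgroup.coe_mul, map_mul, LinearEquiv.mul_apply, hκ, hκ, smul_smul, mul_comm] }
  have hF : Function.Injective F := by
    intro x y h
    apply Subtype.ext
    apply hinj
    ext w
    rw [hκ, hκ]
    exact congrArg (· • w) h
  have hF' : Function.Injective F.toHomUnits := by
    intro x y h
    apply hF
    exact congrArg Units.val h
  have hfin : Finite Kˣ := inferInstance
  have h2 : Nat.card K = Nat.card {f : W →ₗ[ZMod p] W // ∀ g ∈ M, ∀ w, f (τ g w) = τ g (f w)} := by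
    rw [hcard]
    refine Nat.card_congr (Equiv.subtypeEquivRight fun f => ?_)
    exact ⟨fun h g hg w => h ⟨g, hg⟩ w, fun h g w => h g g.2 w⟩
  refine ⟨isCyclic_of_injective F.toHomUnits hF', ?_⟩
  rw [← h2, ← Nat.card_units]
  exact Subgroup.card_dvd_of_injective _ hF'

end Cfsg.Agent.H193.KGL
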