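import Cfsg.Agent.H193.KGL.Theta
import Cfsg.Agent.H193.KGL.ClassNo
import Cfsg.Agent.H553.KClass

/-!
# The structural analysis of the basic situation with `M / A` abelian (project KGL, row E1)

`e_struct`.
-/

set_option autoImplicit false
set_option linter.unusedSectionVars false

namespace Cfsg.Agent.H193.KGL

open Subgroup Cfsg.Agent.H475.KGL

universe u v

variable {p e : ℕ} [Fact p.Prime] {H : Type u} [Group H] [Finite H] {A M C : Subgroup H} {W : Type v}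
  [AddCommGroup W] [Module (ZMod p) W] [Finite W] {ρ : C →* (W ≃ₗ[ZMod p] W)}

/-- `Ω_r(A)` is generated by a commutator. -/
theorem exists_zeta (h : BSit p e A M C ρ) (hab : ∀ x ∈ M, ∀ y ∈ M, x * y * x⁻¹ * y⁻¹ ∈ A) {r : ℕ} [Fact r.Prime]
    (hpow : ∀ x ∈ M, x ^ r ∈ A) :
    ∃ ζ ∈ A, orderOf ζ = r ∧ ∀ a ∈ A, a ^ r = 1 → ∃ j : ZMod r, ζ ^ j.val = a := by
  have hAZ := cent_M h A (h.lt.le.trans h.le) h.com
  have h1 : ∃ x ∈ M, ∃ y ∈ M, x * y ≠ y * x := by
    by_contra hc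
    push Not at hc
    apply not_le_of_gt h.lt
    intro x hx
    exact mem_A h hx (hc x hx)
  obtain ⟨x, hx, y, hy, hxy⟩ := h1
  refine ⟨x * y * x⁻¹ * y⁻¹, hab x hx y hy, ?_, ?_⟩
  · refine orderOf_eq_prime ?_ ?_
    · exact comm_pow h.nA h.nM h.le hAZ.1 hpow (M_le_EE h.nA h.nM h.le hab hx) hy
    · intro h2
      exact hxy (mul_inv_eq_iff_eq_mul.1 (mul_inv_eq_one.1 h2))
  · have hζ : orderOf (x * y * x⁻¹ * y⁻¹) = r := by
      refine orderOf_eq_prime ?_ ?_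
      · exact comm_pow h.nA h.nM h.le hAZ.1 hpow (M_le_EE h.nA h.nM h.le hab hx) hy
      · intro h2
        exact hxy (mul_inv_eq_iff_eq_mul.1 (mul_inv_eq_one.1 h2))
    have hA := hab x hx y hy
    generalize x * y * x⁻¹ * y⁻¹ = ζ at hζ hA
    have hcyc := hAZ.2.1
    classical
    let g : ZMod r → {a : A // a ^ r = 1} := fun j => ⟨⟨ζ ^ j.val, A.pow_mem hA _⟩, by
      apply Subtype.ext
      change (ζ ^ j.val) ^ r = 1
      rw [← pow_mul, mul_comm, pow_mul]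
      nth_rewrite 1 [← hζ]
      rw [pow_orderOf_eq_one, one_pow]⟩
    have hg : Function.Injective g := by
      intro i j hij
      exact zpow_inj hζ (congrArg (fun z : {a : A // a ^ r = 1} => (z.1 : H)) hij)
    have hle : Nat.card {a : A // a ^ r = 1} ≤ Nat.card (ZMod r) := by
      cases nonempty_fintype A
      rw [Nat.card_zmod, Nat.card_eq_fintype_card, Fintype.card_subtype]
      exact IsCyclic.card_pow_eq_one_le (Fact.out : r.Prime).pos
    have hb := hg.bijective_of_nat_card_le hle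
    intro a ha har
    obtain ⟨j, hj⟩ := hb.2 ⟨⟨a, ha⟩, Subtype.ext har⟩
    exact ⟨j, congrArg (fun z : {a : A // a ^ r = 1} => (z.1 : H)) hj⟩

/-- The class number of the subgroups centralising `M / A`. -/
theorem kc_Y (h : BSit p e A M C ρ) {r n : ℕ} [Fact r.Prime]
    (π : M → (Fin (2 * n) → ZMod r)) (hπs : Function.Surjective π)
    (hab : ∀ x ∈ M, ∀ y ∈ M, x * y * x⁻¹ * y⁻¹ ∈ A)
    {ζ : H} (hζ : orderOf ζ = r)
    (Θ : EE h.nA h.nM C → ((Fin (2 * n) → ZMod r) →ₗ[ZMod r] ZMod r)) (hΘ : ∀ y y', Θ (y * y') = Θ y + Θ y')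
    (hΘ2 : ∀ (y : EE h.nA h.nM C) (m : M), ζ ^ (Θ y (π m)).val = (y : H) * m * (y : H)⁻¹ * (m : H)⁻¹)
    {Y : Type u} [Group Y] (ι : Y →* H) (hι : Function.Injective ι) (hY : ∀ y, ι y ∈ EE h.nA h.nM C) :
    r * kc Y ≤ (p ^ e - 1) * (r ^ (2 * n) + r - 1) := by
  have hfin : Finite Y := Finite.of_injective ι hι
  have hZ := cent_M h (C ⊓ centralizer (M : Set H)) inf_le_left (by
    rintro x ⟨-, hx⟩ y hy
    exact (mem_centralizer_iff.1 hx y hy).symm)
  have hME := M_le_EE h.nA h.nM h.le hab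
  -- elements with trivial functional
  have h0 : ∀ y : EE h.nA h.nM C, Θ y = 0 → (y : H) ∈ C ⊓ centralizer (M : Set H) := by
    intro y hy
    refine ⟨y.2.1, mem_centralizer_iff.2 ?_⟩
    intro m hm
    have h1 := hΘ2 y ⟨m, hm⟩
    rw [hy] at h1
    change ζ ^ (0 : ZMod r).val = _ at h1
    rw [zpow_zero] at h1
    exact (mul_inv_eq_iff_eq_mul.1 (mul_inv_eq_one.1 h1.symm)).symm
  let F : Y →* Multiplicative ((Fin (2 * n) → ZMod r) →ₗ[ZMod r] ZMod r) :=
    MonoidHom.mk' (fun y => Multiplicative.ofAdd (Θ ⟨ι y, hY y⟩)) (by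
      intro a b
      rw [← ofAdd_add, ← hΘ]
      congr 2
      apply Subtype.ext
      exact map_mul ι a b)
  have hF : ∀ y, F y = 1 ↔ Θ ⟨ι y, hY y⟩ = 0 := fun y => Iff.rfl
  have hFd : Nat.card (Multiplicative ((Fin (2 * n) → ZMod r) →ₗ[ZMod r] ZMod r)) = r ^ (2 * n) := by
    change Nat.card ((Fin (2 * n) → ZMod r) →ₗ[ZMod r] ZMod r) = r ^ (2 * n)
    rw [Module.natCard_eq_pow_finrank (K := ZMod r), Module.finrank_linearMap, Module.finrank_fin_fun,
      Module.finrank_self, Nat.card_zmod, mul_one]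
  have hFf : Finite (Multiplicative ((Fin (2 * n) → ZMod r) →ₗ[ZMod r] ZMod r)) :=
    Nat.finite_of_card_ne_zero (by rw [hFd]; exact pow_ne_zero _ (Fact.out : r.Prime).ne_zero)
  have hrd : Nat.card F.range ∣ r ^ (2 * n) := by
    rw [← hFd]
    exact card_subgroup_dvd_card _
  obtain ⟨j, hj, hjc⟩ := (Nat.dvd_prime_pow (Fact.out : r.Prime)).1 hrd
  refine kc_bound (j := j) (Fact.out : r.Prime) F.ker ?_ ?_ hj ?_ ?_
  · intro y hy
    have h1 := hZ.1 _ (h0 _ ((hF y).1 hy))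
    rw [mem_center_iff]
    intro g
    apply hι
    rw [map_mul, map_mul]
    exact (h1 (ι g) (hY g).1).symm
  · rw [index_ker, hjc]
  · intro hjn
    have htop : F.range = ⊤ := by
      apply eq_top_of_card_eq
      rw [hjc, hFd, hjn]
    intro y hy
    rw [MonoidHom.mem_ker, hF]
    apply LinearMap.ext
    intro v
    obtain ⟨m, rfl⟩ := hπs v
    apply zpow_inj hζ
    rw [hΘ2]
    change _ = ζ ^ (0 : ZMod r).val
    rw [zpow_zero]
    -- write `m` as a product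
    have h2 : Multiplicative.ofAdd (Θ ⟨m, hME m.2⟩) ∈ F.range := by rw [htop]; exact mem_top _
    obtain ⟨y', hy'⟩ := h2
    have h3 : Θ ⟨ι y', hY y'⟩ = Θ ⟨m, hME m.2⟩ := hy'
    have h4 : Θ (⟨ι y', hY y'⟩ * ⟨m, hME m.2⟩⁻¹) = 0 := by
      have h5 := hΘ (⟨ι y', hY y'⟩ * ⟨m, hME m.2⟩⁻¹) ⟨m, hME m.2⟩
      rw [inv_mul_cancel_right, h3] at h5
      exact right_eq_add.1 h5
    have h5 := hZ.1 _ (h0 _ h4) (ι y) (hY y).1
    change ι y' * (m : H)⁻¹ * ι y = ι y * (ι y' * (m : H)⁻¹) at h5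
    have h6 : ι y' * ι y = ι y * ι y' := by
      rw [← map_mul, ← map_mul, mem_center_iff.1 hy y']
    have h7 : (m : H)⁻¹ * ι y = ι y * (m : H)⁻¹ := by
      have h8 : ι y' * ((m : H)⁻¹ * ι y) = ι y' * (ι y * (m : H)⁻¹) := by
        rw [← mul_assoc, h5, ← mul_assoc, ← mul_assoc, h6]
      exact mul_left_cancel h8
    change ι y * (m : H) * (ι y)⁻¹ * (m : H)⁻¹ = 1
    have h9 : ι y * (m : H) = m * ι y := by
      calc ι y * (m : H) = m * ((m : H)⁻¹ * ι y) * m := by group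
        _ = m * (ι y * (m : H)⁻¹) * m := by rw [h7]
        _ = _ := by group
    rw [h9]
    group
  · have h1 : Nat.card F.ker ≤ Nat.card ((C ⊓ centralizer (M : Set H) : Subgroup H)) := by
      refine Nat.card_le_card_of_injective (fun y => ⟨ι y.1, h0 ⟨ι y.1, hY y.1⟩ ((hF y.1).1 y.2)⟩) ?_
      intro a b hab'
      apply Subtype.ext
      apply hι
      exact congrArg Subtype.val hab'
    refine h1.trans (Nat.le_of_dvd ?_ hZ.2.2)
    have := one_le_q h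
    omega

/-- The outcome `EOut`, from the coordinates. -/
theorem eout (h : BSit p e A M C ρ) {r n : ℕ} [Fact r.Prime]
    (hab : ∀ x ∈ M, ∀ y ∈ M, x * y * x⁻¹ * y⁻¹ ∈ A)
    (hpow : ∀ x ∈ M, x ^ r ∈ A)
    (π : M → (Fin (2 * n) → ZMod r)) (hπ : ∀ x y, π (x * y) = π x + π y) (hπs : Function.Surjective π)
    (hπ0 : ∀ x : M, π x = 0 ↔ (x : H) ∈ A) : EOut p e r n C := by
  obtain ⟨ζ, hζA, hζ, hζe⟩ := exists_zeta h hab hpow
  have hAZ := (cent_M h A (h.lt.le.trans h.le) h.com).1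
  have hME := M_le_EE h.nA h.nM h.le hab
  obtain ⟨Θ, hΘ, hΘ2⟩ := exists_Theta h.nA h.nM h.lt.le h.le hAZ hpow hζ hζe π hπ hπs hπ0
  obtain ⟨ω, hω⟩ := exists_omega h.nA h.nM h.le hAZ hab hζ π hπ hπs hπ0 Θ hΘ hΘ2
  obtain ⟨Φ, hΦ⟩ := exists_act h.nA h.nM π hπ hπs hπ0
  have hω2 : ∀ m m' : M, ζ ^ (ω (π m) (π m')).val = (m : H) * m' * (m : H)⁻¹ * (m' : H)⁻¹ := by
    intro m m'
    rw [hω, hΘ2]
  have halt : ω.IsAlt := by
    intro u
    obtain ⟨m, rfl⟩ := hπs u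
    apply zpow_inj hζ
    rw [hω2, zpow_zero]
    group
  have hleft : ∀ u, (∀ v, ω u v = 0) → u = 0 := by
    intro u hu
    obtain ⟨m, rfl⟩ := hπs u
    rw [hπ0]
    refine mem_A h m.2 fun y hy => ?_
    have h1 := hω2 m ⟨y, hy⟩
    rw [hu, zpow_zero] at h1
    exact mul_inv_eq_iff_eq_mul.1 (mul_inv_eq_one.1 h1.symm)
  have hpres : ∀ g : H, g * ζ * g⁻¹ = ζ → ∀ u v, ω (Φ g u) (Φ g v) = ω u v := by
    intro g hg u v
    obtain ⟨m, rfl⟩ := hπs u
    obtain ⟨m', rfl⟩ := hπs v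
    apply zpow_inj hζ
    rw [hΦ, hΦ, hω2]
    have h1 : g * (ζ ^ (ω (π m) (π m')).val) * g⁻¹ = ζ ^ (ω (π m) (π m')).val := by
      rw [← conj_pow, hg]
    rw [hω2] at h1
    rw [hω2]
    refine Eq.trans ?_ h1
    change (g * m * g⁻¹) * (g * m' * g⁻¹) * (g * m * g⁻¹)⁻¹ * (g * m' * g⁻¹)⁻¹ =
      g * ((m : H) * m' * (m : H)⁻¹ * (m' : H)⁻¹) * g⁻¹
    group
  refine ⟨ω, Φ.range, halt, ?_, ?_, ?_, ?_, ?_⟩
  · refine ⟨hleft, ?_⟩
    intro v hv
    apply hleft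
    intro u
    rw [← halt.neg_eq, hv, neg_zero]
  · intro hp
    exact h.cop (hp.trans (card_range_dvd Φ))
  · intro U hU
    let B : Subgroup H :=
      { carrier := {x | ∃ hx : x ∈ M, π ⟨x, hx⟩ ∈ U}
        one_mem' := ⟨M.one_mem, by
          rw [(hπ0 _).2 A.one_mem]
          exact U.zero_mem⟩
        mul_mem' := by
          rintro x y ⟨hx, hx'⟩ ⟨hy, hy'⟩
          refine ⟨M.mul_mem hx hy, ?_⟩
          have h1 := hπ ⟨x, hx⟩ ⟨y, hy⟩
          have h2 : π ⟨x * y, M.mul_mem hx hy⟩ = π ⟨x, hx⟩ + π ⟨y, hy⟩ := h1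
          rw [h2]
          exact U.add_mem hx' hy'
        inv_mem' := by
          rintro x ⟨hx, hx'⟩
          refine ⟨M.inv_mem hx, ?_⟩
          have h1 := hπ ⟨x⁻¹, M.inv_mem hx⟩ ⟨x, hx⟩
          have h2 : (⟨x⁻¹, M.inv_mem hx⟩ * ⟨x, hx⟩ : M) = 1 := Subtype.ext (inv_mul_cancel x)
          rw [h2, (hπ0 _).2 A.one_mem] at h1
          rw [eq_neg_of_add_eq_zero_left h1.symm]
          exact U.neg_mem hx' }
    have hB : ∀ x, x ∈ B ↔ ∃ hx : x ∈ M, π ⟨x, hx⟩ ∈ U := fun x => Iff.rfl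
    have hBn : B.Normal := by
      refine ⟨fun x hx g => ?_⟩
      rw [hB] at hx ⊢
      obtain ⟨hx, hx'⟩ := hx
      refine ⟨h.nM.conj_mem x hx g, ?_⟩
      have h1 := hΦ g ⟨x, hx⟩
      rw [← h1]
      exact hU (Φ g) ⟨g, rfl⟩ _ hx'
    rcases h.chief B hBn (fun a ha => ⟨h.lt.le ha, by
        rw [(hπ0 ⟨a, h.lt.le ha⟩).2 ha]
        exact U.zero_mem⟩) (fun x hx => hx.1) with h1 | h1
    · left
      rw [eq_bot_iff]
      intro u hu
      obtain ⟨m, rfl⟩ := hπs u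
      rw [Submodule.mem_bot, hπ0, ← h1, hB]
      exact ⟨m.2, hu⟩
    · right
      rw [eq_top_iff]
      intro u _
      obtain ⟨m, rfl⟩ := hπs u
      have h2 : (m : H) ∈ B := by rw [h1]; exact m.2
      exact ((hB _).1 h2).2
  · rintro h2 _ ⟨g, rfl⟩
    apply hpres
    obtain ⟨j, hj⟩ := hζe (g * ζ * g⁻¹) (h.nA.conj_mem ζ hζA g) (by
      rw [conj_pow, ← hζ, pow_orderOf_eq_one]
      group)
    have hj1 : j.val = 1 := by
      have h3 : j.val < r := ZMod.val_lt j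
      have h4 : j.val ≠ 0 := by
        intro h4
        rw [h4, pow_zero] at hj
        have h5 : ζ = 1 := by
          have h6 : ζ = g⁻¹ * (g * ζ * g⁻¹) * g := by group
          rw [h6, ← hj]
          group
        rw [h5, orderOf_one] at hζ
        exact (Fact.out : r.Prime).one_lt.ne hζ
      omega
    rw [hj1, pow_one] at hj
    exact hj.symm
  · intro N hN hNC
    refine ⟨N.map Φ, ⟨map_le_range Φ N, ?_⟩, ?_, ?_⟩
    · have h1 : (N.map Φ).subgroupOf Φ.range = N.map Φ.rangeRestrict := by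
        ext x
        rw [mem_subgroupOf, mem_map, mem_map]
        constructor
        · rintro ⟨g, hg, hgx⟩
          exact ⟨g, hg, Subtype.ext hgx⟩
        · rintro ⟨g, hg, hgx⟩
          exact ⟨g, hg, congrArg Subtype.val hgx⟩
      rw [h1]
      exact hN.map Φ.rangeRestrict_surjective
    · rintro _ ⟨g, hg, rfl⟩
      apply hpres
      rw [← hAZ ζ hζA g (hNC hg)]
      group
    · have h1 := H553.KClass.le_ker_mul_range (Φ.comp N.subtype)
      have h2 : (Φ.comp N.subtype).range = N.map Φ := by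
        rw [MonoidHom.range_eq_map, ← map_map, ← MonoidHom.range_eq_map, range_subtype]
      rw [h2] at h1
      have h3 := kc_Y h π hπs hab hζ Θ hΘ hΘ2 (N.subtype.comp (Φ.comp N.subtype).ker.subtype)
        (N.subtype_injective.comp (Φ.comp N.subtype).ker.subtype_injective) (by
          rintro ⟨y, hy⟩
          refine ⟨hNC y.2, fun m hm => ?_⟩
          change (y : H) * m * (y : H)⁻¹ * m⁻¹ ∈ A
          have h4 : Φ (y : H) = 1 := hy
          have h5 := hΦ (y : H) ⟨m, hm⟩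
          rw [h4] at h5
          exact div_mem hπ hπ0 (m := ⟨(y : H) * m * (y : H)⁻¹, h.nM.conj_mem m hm y⟩) (m' := ⟨m, hm⟩) h5.symm)
      calc r * kc N ≤ r * (kc (Φ.comp N.subtype).ker * kc (N.map Φ)) := Nat.mul_le_mul_left _ h1
        _ = (r * kc (Φ.comp N.subtype).ker) * kc (N.map Φ) := by ring
        _ ≤ _ := Nat.mul_le_mul_right _ h3

/-- **Row E1.**  The structure of the basic situation with `M / A` abelian. -/
theorem e_struct (h : BSit p e A M C ρ) (hab : ∀ x ∈ M, ∀ y ∈ M, x * y * x⁻¹ * y⁻¹ ∈ A) :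
    ∃ r n : ℕ, r.Prime ∧ 1 ≤ n ∧ r ∣ p ^ e - 1 ∧ Nat.card M = r ^ (2 * n) * Nat.card A ∧
      Nat.card W = (p ^ e) ^ (r ^ n) ∧ EOut p e r n C := by
  obtain ⟨r, hr, hpow⟩ := pow_mem_A h hab
  have := Fact.mk hr
  obtain ⟨k, π, hπ, hπs, hπ0, hcard⟩ := exists_coord h.nA h.lt.le hpow hab
  obtain ⟨d, hd1, hd2⟩ := dim h hab
  have hApos : 0 < Nat.card A := Nat.card_pos
  have hdk : d ^ 2 = r ^ k := Nat.eq_of_mul_eq_mul_right hApos (by rw [← hd1, ← hcard])
  obtain ⟨n, -, hn⟩ := (Nat.dvd_prime_pow hr).1 (show d ∣ r ^ k from hdk ▸ dvd_pow_self d two_ne_zero)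
  have hk : k = 2 * n := by
    apply Nat.pow_right_injective hr.two_le
    change r ^ k = r ^ (2 * n)
    rw [← hdk, hn, ← pow_mul, mul_comm]
  subst hk
  subst hn
  obtain ⟨ζ, hζA, hζ, -⟩ := exists_zeta h hab hpow
  refine ⟨r, n, hr, ?_, ?_, hcard, hd2, eout h hab hpow π hπ hπs hπ0⟩
  · rcases Nat.eq_zero_or_pos n with h0 | h0
    · exfalso
      subst h0
      rw [mul_zero, pow_zero, one_mul] at hcard
      exact h.lt.ne (eq_of_le_of_card_ge h.lt.le hcard.le)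
    · exact h0
  · have h1 := (cent_M h A (h.lt.le.trans h.le) h.com).2.2
    have h2 : orderOf (⟨ζ, hζA⟩ : A) ∣ Nat.card A := orderOf_dvd_natCard _
    rw [orderOf_mk, hζ] at h2
    exact h2.trans h1

end Cfsg.Agent.H193.KGL
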