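import Cfsg.Agent.H475.KGL.Rows
import Cfsg.Agent.H193.KGL.Dim

/-!
# The basic situation with `M / A` abelian: group structure
-/

set_option autoImplicit false
set_option linter.unusedSectionVars false

namespace Cfsg.Agent.H193.KGL

open Subgroup Cfsg.Agent.H475.KGL

universe u v

section

variable {p e : ℕ} [Fact p.Prime] {H : Type u} [Group H] [Finite H] {A M C : Subgroup H} {W : Type v}
  [AddCommGroup W] [Module (ZMod p) W] [Finite W] {ρ : C →* (W ≃ₗ[ZMod p] W)}

include p e W ρ in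
/-- `A` contains the centre of `M`. -/
theorem mem_A (h : BSit p e A M C ρ) {x : H} (hx : x ∈ M) (hxc : ∀ y ∈ M, x * y = y * x) : x ∈ A := by
  have := h.nA
  have := h.nM
  have h1 := h.max (M ⊓ centralizer (M : Set H)) inferInstance
    (fun a ha => ⟨h.lt.le ha, mem_centralizer_iff.2 fun y hy => (h.com a ha y hy).symm⟩) inf_le_left
    (by
      rintro a ⟨ha, ha'⟩ b ⟨hb, hb'⟩
      exact (mem_centralizer_iff.1 hb' a ha))
  rw [← h1]
  exact ⟨hx, mem_centralizer_iff.2 fun y hy => (hxc y hy).symm⟩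

/-- A subgroup of `C` centralising `M` is central in `C`, cyclic, and its order divides `p ^ e - 1`. -/
theorem cent_M (h : BSit p e A M C ρ) (Z : Subgroup H) (hZC : Z ≤ C) (hZ : ∀ x ∈ Z, ∀ y ∈ M, x * y = y * x) :
    (∀ x ∈ Z, ∀ y ∈ C, x * y = y * x) ∧ IsCyclic Z ∧ Nat.card Z ∣ p ^ e - 1 := by
  have := h.nt
  have h1 := cyclic_of_comm ρ h.inj (M.subgroupOf C) (Z.subgroupOf C) (by
      intro U hU
      refine h.irr U fun m hm u hu => hU m ?_ u hu
      rwa [mem_subgroupOf])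
    (by
      rintro x hx y hy
      rw [mem_subgroupOf] at hx hy
      apply Subtype.ext
      exact hZ x hx y hy)
  have h2 : Nat.card {f : W →ₗ[ZMod p] W // ∀ g ∈ M.subgroupOf C, ∀ w, f (ρ g w) = ρ g (f w)} = p ^ e := by
    rw [← h.endq]
    refine Nat.card_congr (Equiv.subtypeEquivRight fun f => ?_)
    exact ⟨fun k g hg w => k g (mem_subgroupOf.2 hg) w, fun k g hg w => k g (mem_subgroupOf.1 hg) w⟩
  rw [h2] at h1
  refine ⟨?_, ?_, ?_⟩
  · intro x hx y hy
    have h3 := h.endC ((ρ ⟨x, hZC hx⟩ : W ≃ₗ[ZMod p] W) : W →ₗ[ZMod p] W) (by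
      intro m hm w
      change ρ ⟨x, hZC hx⟩ (ρ m w) = ρ m (ρ ⟨x, hZC hx⟩ w)
      rw [← LinearEquiv.mul_apply, ← LinearEquiv.mul_apply, ← map_mul, ← map_mul]
      congr 2
      apply Subtype.ext
      exact hZ x hx m hm) ⟨y, hy⟩
    have h4 : ρ (⟨x, hZC hx⟩ * ⟨y, hy⟩) = ρ (⟨y, hy⟩ * ⟨x, hZC hx⟩) := by
      ext w
      rw [map_mul, map_mul, LinearEquiv.mul_apply, LinearEquiv.mul_apply]
      exact h3 w
    exact congrArg Subtype.val (h.inj h4)
  · have := h1.1
    exact isCyclic_of_surjective (subgroupOfEquivOfLe hZC) (subgroupOfEquivOfLe hZC).surjective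
  · rw [← Nat.card_congr (subgroupOfEquivOfLe hZC).toEquiv]
    exact h1.2

theorem one_le_q (h : BSit p e A M C ρ) : 2 ≤ p ^ e := by
  have := h.nt
  rw [← h.endq]
  have : Finite {f : W →ₗ[ZMod p] W // ∀ m : C, (m : H) ∈ M → ∀ w, f (ρ m w) = ρ m (f w)} := by
    refine Finite.of_injective (fun f => (f.1 : W → W)) ?_
    intro f g hfg
    apply Subtype.ext
    ext w
    exact congrFun hfg w
  have hn : Nontrivial {f : W →ₗ[ZMod p] W // ∀ m : C, (m : H) ∈ M → ∀ w, f (ρ m w) = ρ m (f w)} := by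
    refine ⟨⟨0, fun _ _ _ => by simp⟩, ⟨LinearMap.id, fun _ _ _ => rfl⟩, ?_⟩
    intro h1
    have h2 := congrArg Subtype.val h1
    obtain ⟨w, hw⟩ := exists_ne (0 : W)
    exact hw (LinearMap.congr_fun h2 w).symm
  exact Finite.one_lt_card

/-- The order of `M / A` and the order of `W`. -/
theorem dim (h : BSit p e A M C ρ) (hab : ∀ x ∈ M, ∀ y ∈ M, x * y * x⁻¹ * y⁻¹ ∈ A) :
    ∃ d, Nat.card M = d ^ 2 * Nat.card A ∧ Nat.card W = (p ^ e) ^ d := by
  have := h.nt
  have hcen : center M = A.subgroupOf M := by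
    ext x
    rw [mem_center_iff, mem_subgroupOf]
    constructor
    · intro hx
      exact mem_A h x.2 fun y hy => (congrArg Subtype.val (hx ⟨y, hy⟩)).symm
    · intro hx g
      apply Subtype.ext
      exact (h.com x hx g g.2).symm
  obtain ⟨d, h1, h2⟩ := dim_struct (ρ.comp (inclusion h.le)) (h.inj.comp (inclusion_injective h.le)) (by
      intro U hU
      exact h.irr U fun m hm u hu => hU ⟨m, hm⟩ u hu) (by
      intro x y
      rw [hcen, mem_subgroupOf]
      exact hab x x.2 y y.2)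
  refine ⟨d, ?_, ?_⟩
  · rw [h1, hcen, Nat.card_congr (subgroupOfEquivOfLe h.lt.le).toEquiv]
  · rw [h2, ← h.endq]
    congr 1
    refine Nat.card_congr (Equiv.subtypeEquivRight fun f => ?_)
    exact ⟨fun k g hg w => k ⟨g, hg⟩ w, fun k g w => k (inclusion h.le g) g.2 w⟩

/-- `M / A` is elementary abelian. -/
theorem pow_mem_A (h : BSit p e A M C ρ) (hab : ∀ x ∈ M, ∀ y ∈ M, x * y * x⁻¹ * y⁻¹ ∈ A) :
    ∃ r : ℕ, r.Prime ∧ ∀ x ∈ M, x ^ r ∈ A := by
  have := h.nA
  have := h.nM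
  have hn : (A.subgroupOf M).Normal := inferInstance
  have hne : Nontrivial (M ⧸ A.subgroupOf M) := by
    rw [QuotientGroup.nontrivial_iff]
    intro h1
    exact absurd (subgroupOf_eq_top.1 h1) (not_le_of_gt h.lt)
  obtain ⟨r, hr, hrd⟩ := Nat.exists_prime_and_dvd (n := Nat.card (M ⧸ A.subgroupOf M)) Finite.one_lt_card.ne'
  have := Fact.mk hr
  obtain ⟨g, hg⟩ := exists_prime_orderOf_dvd_card' r hrd
  have hcommq : ∀ a b : M ⧸ A.subgroupOf M, a * b = b * a := by
    intro a b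
    induction a using QuotientGroup.induction_on with
    | H a =>
      induction b using QuotientGroup.induction_on with
      | H b =>
        have h1 : ((a * b * a⁻¹ * b⁻¹ : M) : M ⧸ A.subgroupOf M) = 1 := by
          rw [QuotientGroup.eq_one_iff, mem_subgroupOf]
          exact hab a a.2 b b.2
        have h2 : ((a * b * a⁻¹ * b⁻¹ : M) : M ⧸ A.subgroupOf M) = (a : M ⧸ A.subgroupOf M) * b * (a : M ⧸ A.subgroupOf M)⁻¹ * (b : M ⧸ A.subgroupOf M)⁻¹ := rfl
        rw [h2] at h1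
        exact mul_inv_eq_iff_eq_mul.1 (mul_inv_eq_one.1 h1)
  have key : ∀ x y : H, x ∈ M → y ∈ M → x ^ r ∈ A → y ^ r ∈ A → (x * y) ^ r ∈ A := by
    intro x y hx hy h1 h2
    have h3 : (((⟨x, hx⟩ * ⟨y, hy⟩ : M) ^ r : M) : M ⧸ A.subgroupOf M) = 1 := by
      rw [QuotientGroup.mk_pow, QuotientGroup.mk_mul, Commute.mul_pow (hcommq _ _), ← QuotientGroup.mk_pow,
        ← QuotientGroup.mk_pow, (QuotientGroup.eq_one_iff _).2 (mem_subgroupOf.2 h1),
        (QuotientGroup.eq_one_iff _).2 (mem_subgroupOf.2 h2), mul_one]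
    rw [QuotientGroup.eq_one_iff, mem_subgroupOf] at h3
    exact h3
  let B : Subgroup H :=
    { carrier := {x | x ∈ M ∧ x ^ r ∈ A}
      one_mem' := ⟨M.one_mem, by rw [one_pow]; exact A.one_mem⟩
      mul_mem' := fun {x y} hx hy => ⟨M.mul_mem hx.1 hy.1, key x y hx.1 hy.1 hx.2 hy.2⟩
      inv_mem' := fun {x} hx => ⟨M.inv_mem hx.1, by rw [inv_pow]; exact A.inv_mem hx.2⟩ }
  have hB : ∀ x, x ∈ B ↔ x ∈ M ∧ x ^ r ∈ A := fun x => Iff.rfl
  have hBn : B.Normal := by
    refine ⟨fun x hx g => ?_⟩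
    rw [hB] at hx ⊢
    refine ⟨h.nM.conj_mem x hx.1 g, ?_⟩
    rw [conj_pow]
    exact h.nA.conj_mem _ hx.2 g
  refine ⟨r, hr, ?_⟩
  rcases h.chief B hBn (fun a ha => ⟨h.lt.le ha, A.pow_mem ha r⟩) (fun x hx => hx.1) with h1 | h1
  · exfalso
    induction g using QuotientGroup.induction_on with
    | H g =>
      have h2 : (g : H) ∈ B := by
        rw [hB]
        refine ⟨g.2, ?_⟩
        have h3 := pow_orderOf_eq_one (g : M ⧸ A.subgroupOf M)
        rw [hg, ← QuotientGroup.mk_pow, QuotientGroup.eq_one_iff, mem_subgroupOf] at h3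
        exact h3
      rw [h1] at h2
      have h4 : (g : M ⧸ A.subgroupOf M) = 1 := (QuotientGroup.eq_one_iff _).2 (mem_subgroupOf.2 h2)
      rw [h4, orderOf_one] at hg
      exact hr.one_lt.ne hg
  · intro x hx
    rw [← h1] at hx
    exact hx.2

end

/-- Coordinates on an elementary abelian group. -/
theorem coord_aux' (V : Type u) [AddCommGroup V] [Finite V] {r : ℕ} [Fact r.Prime] [Module (ZMod r) V] :
    ∃ (k : ℕ) (f : V ≃ (Fin k → ZMod r)), (∀ x y, f (x + y) = f x + f y) ∧ Nat.card V = r ^ k := by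
  let b := Module.finBasis (ZMod r) V
  refine ⟨Module.finrank (ZMod r) V, b.equivFun.toEquiv, fun x y => map_add b.equivFun x y, ?_⟩
  have h1 : Nat.card V = Nat.card (ZMod r) ^ Module.finrank (ZMod r) V :=
    Module.natCard_eq_pow_finrank
  rw [Nat.card_zmod] at h1
  exact h1

/-- Coordinates on an elementary abelian group. -/
theorem coord_aux (Q : Type u) [CommGroup Q] [Finite Q] {r : ℕ} [Fact r.Prime] (hQ : ∀ x : Q, x ^ r = 1) :
    ∃ (k : ℕ) (f : Q ≃ (Fin k → ZMod r)), (∀ x y, f (x * y) = f x + f y) ∧ Nat.card Q = r ^ k := by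
  have hzero : ∀ x : Additive Q, r • x = 0 := fun x => hQ (Additive.toMul x)
  have iM : Module (ZMod r) (Additive Q) := AddCommGroup.zmodModule hzero
  have iF : Finite (Additive Q) := inferInstanceAs (Finite Q)
  obtain ⟨k, f, h1, h2⟩ := coord_aux' (Additive Q) (r := r)
  exact ⟨k, Additive.ofMul.trans f, fun x y => h1 _ _, h2⟩

/-- Coordinates on an elementary abelian section. -/
theorem exists_coord {H : Type u} [Group H] [Finite H] {A M : Subgroup H} (hA : A.Normal) (hAM : A ≤ M) {r : ℕ}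
    [Fact r.Prime] (hpow : ∀ x ∈ M, x ^ r ∈ A) (hab : ∀ x ∈ M, ∀ y ∈ M, x * y * x⁻¹ * y⁻¹ ∈ A) :
    ∃ (k : ℕ) (π : M → (Fin k → ZMod r)), (∀ x y, π (x * y) = π x + π y) ∧ Function.Surjective π ∧
      (∀ x : M, π x = 0 ↔ (x : H) ∈ A) ∧ Nat.card M = r ^ k * Nat.card A := by
  have hn : (A.subgroupOf M).Normal := inferInstance
  have hcommq : ∀ a b : M ⧸ A.subgroupOf M, a * b = b * a := by
    intro a b
    induction a using QuotientGroup.induction_on with
    | H a =>
      induction b using QuotientGroup.induction_on with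
      | H b =>
        have h1 : ((a * b * a⁻¹ * b⁻¹ : M) : M ⧸ A.subgroupOf M) = 1 := by
          rw [QuotientGroup.eq_one_iff, mem_subgroupOf]
          exact hab a a.2 b b.2
        have h2 : ((a * b * a⁻¹ * b⁻¹ : M) : M ⧸ A.subgroupOf M) = (a : M ⧸ A.subgroupOf M) * b * (a : M ⧸ A.subgroupOf M)⁻¹ * (b : M ⧸ A.subgroupOf M)⁻¹ := rfl
        rw [h2] at h1
        exact mul_inv_eq_iff_eq_mul.1 (mul_inv_eq_one.1 h1)
  let iC : CommGroup (M ⧸ A.subgroupOf M) := { (inferInstance : Group (M ⧸ A.subgroupOf M)) with mul_comm := hcommq }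
  obtain ⟨k, f, hf, hk⟩ := coord_aux (M ⧸ A.subgroupOf M) (r := r) (by
    intro x
    induction x using QuotientGroup.induction_on with
    | H g =>
      have h1 : ((g ^ r : M) : M ⧸ A.subgroupOf M) = 1 :=
        (QuotientGroup.eq_one_iff _).2 (mem_subgroupOf.2 (hpow g g.2))
      exact h1)
  refine ⟨k, fun x => f (x : M ⧸ A.subgroupOf M), ?_, ?_, ?_, ?_⟩
  · intro x y
    exact hf (x : M ⧸ A.subgroupOf M) (y : M ⧸ A.subgroupOf M)
  · exact f.surjective.comp QuotientGroup.mk_surjective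
  · intro x
    have h0 : f 1 = 0 := by
      have := hf 1 1
      rw [mul_one] at this
      exact left_eq_add.1 this
    rw [← mem_subgroupOf, ← QuotientGroup.eq_one_iff, ← h0]
    exact f.injective.eq_iff
  · rw [Subgroup.card_eq_card_quotient_mul_card_subgroup (A.subgroupOf M),
      Nat.card_congr (subgroupOfEquivOfLe hAM).toEquiv, hk]

end Cfsg.Agent.H193.KGL
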