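import Cfsg.Agent.H193.KGL.Form

/-!
# The commutator form
-/

set_option autoImplicit false
set_option linter.unusedSectionVars false

namespace Cfsg.Agent.H193.KGL

open Subgroup Cfsg.Agent.H475.KGL

universe u v

/-- Powers of `ζ` with exponents in `ZMod r`. -/
theorem zpow_add {H : Type u} [Group H] {r : ℕ} [Fact r.Prime] {ζ : H} (hζ : orderOf ζ = r) (a b : ZMod r) :
    ζ ^ (a + b).val = ζ ^ a.val * ζ ^ b.val := by
  rw [← pow_add, ZMod.val_add]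
  have h1 := pow_mod_orderOf ζ (a.val + b.val)
  rw [hζ] at h1
  exact h1

theorem zpow_inj {H : Type u} [Group H] {r : ℕ} [Fact r.Prime] {ζ : H} (hζ : orderOf ζ = r) {a b : ZMod r}
    (h : ζ ^ a.val = ζ ^ b.val) : a = b := by
  have h1 := pow_inj_mod.1 h
  rw [hζ, Nat.mod_eq_of_lt (ZMod.val_lt a), Nat.mod_eq_of_lt (ZMod.val_lt b)] at h1
  exact ZMod.val_injective r h1

theorem zpow_zero {H : Type u} [Group H] {r : ℕ} {ζ : H} : ζ ^ (0 : ZMod r).val = 1 := by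
  rw [ZMod.val_zero, pow_zero]

theorem comm_mul_right {H : Type u} [Group H] {y m m' : H} (h : (y * m' * y⁻¹ * m'⁻¹) * m = m * (y * m' * y⁻¹ * m'⁻¹)) :
    y * (m * m') * y⁻¹ * (m * m')⁻¹ = (y * m * y⁻¹ * m⁻¹) * (y * m' * y⁻¹ * m'⁻¹) := by
  have h1 : (y * m' * y⁻¹ * m'⁻¹) = m⁻¹ * (y * m' * y⁻¹ * m'⁻¹) * m := by
    rw [mul_assoc m⁻¹, h]; group
  calc y * (m * m') * y⁻¹ * (m * m')⁻¹ = (y * m * y⁻¹) * (y * m' * y⁻¹ * m'⁻¹) * m⁻¹ := by group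
    _ = (y * m * y⁻¹) * (m⁻¹ * (y * m' * y⁻¹ * m'⁻¹) * m) * m⁻¹ := by rw [← h1]
    _ = _ := by group

theorem comm_mul_left {H : Type u} [Group H] {y y' m : H} (h : (y' * m * y'⁻¹ * m⁻¹) * y = y * (y' * m * y'⁻¹ * m⁻¹))
    (h' : (y' * m * y'⁻¹ * m⁻¹) * (y * m * y⁻¹ * m⁻¹) = (y * m * y⁻¹ * m⁻¹) * (y' * m * y'⁻¹ * m⁻¹)) :
    (y * y') * m * (y * y')⁻¹ * m⁻¹ = (y * m * y⁻¹ * m⁻¹) * (y' * m * y'⁻¹ * m⁻¹) := by
  rw [← h']
  calc (y * y') * m * (y * y')⁻¹ * m⁻¹ = (y * (y' * m * y'⁻¹ * m⁻¹)) * m * y⁻¹ * m⁻¹ := by group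
    _ = ((y' * m * y'⁻¹ * m⁻¹) * y) * m * y⁻¹ * m⁻¹ := by rw [h]
    _ = _ := by group

section

variable {H : Type u} [Group H] [Finite H] {A M C : Subgroup H} {r k : ℕ} [Fact r.Prime]

/-- The subgroup of elements of `C` centralising `M / A`. -/
def EE (hA : A.Normal) (hM : M.Normal) (C : Subgroup H) : Subgroup H where
  carrier := {y | y ∈ C ∧ ∀ m ∈ M, y * m * y⁻¹ * m⁻¹ ∈ A}
  one_mem' := ⟨C.one_mem, fun m _ => by simp⟩
  mul_mem' := by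
    rintro x y ⟨hx, hx'⟩ ⟨hy, hy'⟩
    refine ⟨C.mul_mem hx hy, fun m hm => ?_⟩
    have h1 : x * y * m * (x * y)⁻¹ * m⁻¹ = x * (y * m * y⁻¹ * m⁻¹) * x⁻¹ * (x * m * x⁻¹ * m⁻¹) := by group
    rw [h1]
    exact A.mul_mem (hA.conj_mem _ (hy' m hm) x) (hx' m hm)
  inv_mem' := by
    rintro x ⟨hx, hx'⟩
    refine ⟨C.inv_mem hx, fun m hm => ?_⟩
    have h1 : x⁻¹ * m * x⁻¹⁻¹ * m⁻¹ = ((x * (x⁻¹ * m * x⁻¹⁻¹) * x⁻¹ * (x⁻¹ * m * x⁻¹⁻¹)⁻¹))⁻¹ := by group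
    rw [h1]
    exact A.inv_mem (hx' _ (hM.conj_mem m hm x⁻¹))

theorem mem_EE (hA : A.Normal) (hM : M.Normal) {y : H} :
    y ∈ EE hA hM C ↔ y ∈ C ∧ ∀ m ∈ M, y * m * y⁻¹ * m⁻¹ ∈ A := Iff.rfl

/-- Commutators of elements of `E` and `M` have order dividing `r`. -/
theorem comm_pow (hA : A.Normal) (hM : M.Normal) (hMC : M ≤ C)
    (hAC : ∀ a ∈ A, ∀ x ∈ C, a * x = x * a) (hpow : ∀ x ∈ M, x ^ r ∈ A)
    {y : H} (hy : y ∈ EE hA hM C) {m : H} (hm : m ∈ M) : (y * m * y⁻¹ * m⁻¹) ^ r = 1 := by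
  have key : ∀ j : ℕ, (y * m * y⁻¹ * m⁻¹) ^ j = y * m ^ j * y⁻¹ * (m ^ j)⁻¹ := by
    intro j
    induction j with
    | zero => simp
    | succ j ih =>
      rw [pow_succ, ih, pow_succ m j, comm_mul_right]
      exact hAC _ (hy.2 m hm) _ (hMC (M.pow_mem hm j))
  have h1 := hAC _ (hpow m hm) y hy.1
  rw [key r, ← h1]
  group

/-- The functional on `M / A` given by an element of `E`. -/
theorem exists_Theta (hA : A.Normal) (hM : M.Normal) (hAM : A ≤ M) (hMC : M ≤ C)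
    (hAC : ∀ a ∈ A, ∀ x ∈ C, a * x = x * a) (hpow : ∀ x ∈ M, x ^ r ∈ A) {ζ : H} (hζ : orderOf ζ = r)
    (hζA : ∀ a ∈ A, a ^ r = 1 → ∃ j : ZMod r, ζ ^ j.val = a)
    (π : M → (Fin k → ZMod r)) (hπ : ∀ x y, π (x * y) = π x + π y) (hπs : Function.Surjective π)
    (hπ0 : ∀ x : M, π x = 0 ↔ (x : H) ∈ A) :
    ∃ Θ : EE hA hM C → ((Fin k → ZMod r) →ₗ[ZMod r] ZMod r), (∀ y y', Θ (y * y') = Θ y + Θ y') ∧
      ∀ (y : EE hA hM C) (m : M), ζ ^ (Θ y (π m)).val = (y : H) * m * (y : H)⁻¹ * (m : H)⁻¹ := by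
  have h1 : ∀ (y : EE hA hM C) (m : M), ∃ j : ZMod r, ζ ^ j.val = (y : H) * m * (y : H)⁻¹ * (m : H)⁻¹ := fun y m =>
    hζA _ (y.2.2 m m.2) (comm_pow hA hM hMC hAC hpow y.2 m.2)
  choose lg hlg using h1
  have hr1 : ∀ (y : EE hA hM C) (m m' : M), lg y (m * m') = lg y m + lg y m' := by
    intro y m m'
    apply zpow_inj hζ
    rw [zpow_add hζ, hlg, hlg, hlg, Subgroup.coe_mul, comm_mul_right]
    exact hAC _ (y.2.2 m' m'.2) m (hMC m.2)
  have hr2 : ∀ (y y' : EE hA hM C) (m : M), lg (y * y') m = lg y m + lg y' m := by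
    intro y y' m
    apply zpow_inj hζ
    rw [zpow_add hζ, hlg, hlg, hlg, Subgroup.coe_mul, comm_mul_left]
    · exact hAC _ (y'.2.2 m m.2) y y.2.1
    · exact hAC _ (y'.2.2 m m.2) _ (hMC (hAM (y.2.2 m m.2)))
  have hr3 : ∀ (y : EE hA hM C) (m m' : M), π m = π m' → lg y m = lg y m' := by
    intro y m m' h
    have h2 : π (m * m'⁻¹) = 0 := by
      have h3 := hπ (m * m'⁻¹) m'
      rw [inv_mul_cancel_right, h] at h3
      exact right_eq_add.1 h3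
    have h4 := (hπ0 _).1 h2
    have h5 : lg y (m * m'⁻¹) = 0 := by
      apply zpow_inj hζ
      rw [zpow_zero, hlg, ← hAC _ h4 y y.2.1]
      group
    have h6 := hr1 y (m * m'⁻¹) m'
    rw [inv_mul_cancel_right, h5, zero_add] at h6
    exact h6
  choose s hs using hπs
  refine ⟨fun y => (AddMonoidHom.mk' (fun v => lg y (s v)) ?_).toZModLinearMap r, ?_, ?_⟩
  · intro u v
    rw [← hr1]
    apply hr3
    rw [hπ, hs, hs, hs]
  · intro y y'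
    ext v
    exact hr2 y y' _
  · intro y m
    change ζ ^ (lg y (s (π m))).val = _
    rw [hr3 y (s (π m)) m (hs _), hlg]

/-- Elements of `M` with the same coordinates differ by an element of `A`. -/
theorem div_mem {M A : Subgroup H} {k : ℕ} {π : M → (Fin k → ZMod r)} (hπ : ∀ x y, π (x * y) = π x + π y)
    (hπ0 : ∀ x : M, π x = 0 ↔ (x : H) ∈ A) {m m' : M} (h : π m = π m') : (m : H) * (m' : H)⁻¹ ∈ A := by
  have h2 : π (m * m'⁻¹) = 0 := by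
    have h3 := hπ (m * m'⁻¹) m'
    rw [inv_mul_cancel_right, h] at h3
    exact right_eq_add.1 h3
  exact (hπ0 _).1 h2

theorem M_le_EE (hA : A.Normal) (hM : M.Normal) (hMC : M ≤ C) (hab : ∀ x ∈ M, ∀ y ∈ M, x * y * x⁻¹ * y⁻¹ ∈ A) :
    M ≤ EE hA hM C := fun x hx => ⟨hMC hx, fun y hy => hab x hx y hy⟩

/-- The commutator form. -/
theorem exists_omega (hA : A.Normal) (hM : M.Normal) (hMC : M ≤ C)
    (hAC : ∀ a ∈ A, ∀ x ∈ C, a * x = x * a)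
    (hab : ∀ x ∈ M, ∀ y ∈ M, x * y * x⁻¹ * y⁻¹ ∈ A) {ζ : H} (hζ : orderOf ζ = r)
    (π : M → (Fin k → ZMod r)) (hπ : ∀ x y, π (x * y) = π x + π y) (hπs : Function.Surjective π)
    (hπ0 : ∀ x : M, π x = 0 ↔ (x : H) ∈ A)
    (Θ : EE hA hM C → ((Fin k → ZMod r) →ₗ[ZMod r] ZMod r)) (hΘ : ∀ y y', Θ (y * y') = Θ y + Θ y')
    (hΘ2 : ∀ (y : EE hA hM C) (m : M), ζ ^ (Θ y (π m)).val = (y : H) * m * (y : H)⁻¹ * (m : H)⁻¹) :
    ∃ ω : LinearMap.BilinForm (ZMod r) (Fin k → ZMod r),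
      ∀ m : M, ω (π m) = Θ ⟨m, M_le_EE hA hM hMC hab m.2⟩ := by
  have hME := M_le_EE hA hM hMC hab
  have key : ∀ m m' : M, π m = π m' → Θ ⟨m, hME m.2⟩ = Θ ⟨m', hME m'.2⟩ := by
    intro m m' h
    have h1 := div_mem hπ hπ0 h
    have h2 : (⟨m, hME m.2⟩ : EE hA hM C) = ⟨(m : H) * (m' : H)⁻¹, hME (M.mul_mem m.2 (M.inv_mem m'.2))⟩ *
        ⟨m', hME m'.2⟩ := by
      apply Subtype.ext
      exact (inv_mul_cancel_right _ _).symm
    rw [h2, hΘ]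
    convert zero_add _
    apply LinearMap.ext
    intro v
    obtain ⟨x, rfl⟩ := hπs v
    apply zpow_inj hζ
    rw [hΘ2]
    change _ = ζ ^ (0 : ZMod r).val
    rw [zpow_zero, hAC _ h1 x (hMC x.2)]
    group
  choose s hs using hπs
  refine ⟨(AddMonoidHom.mk' (fun v => Θ ⟨s v, hME (s v).2⟩) ?_).toZModLinearMap r, ?_⟩
  · intro u v
    rw [← hΘ]
    exact key (s (u + v)) (s u * s v) (by rw [hπ, hs, hs, hs])
  · intro m
    exact key (s (π m)) m (hs _)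

/-- The action of `H` on `M / A`. -/
theorem exists_act (hA : A.Normal) (hM : M.Normal) (π : M → (Fin k → ZMod r)) (hπ : ∀ x y, π (x * y) = π x + π y)
    (hπs : Function.Surjective π) (hπ0 : ∀ x : M, π x = 0 ↔ (x : H) ∈ A) :
    ∃ Φ : H →* ((Fin k → ZMod r) ≃ₗ[ZMod r] (Fin k → ZMod r)),
      ∀ (h : H) (m : M), Φ h (π m) = π ⟨h * m * h⁻¹, hM.conj_mem m m.2 h⟩ := by
  have key : ∀ (h : H) (m m' : M), π m = π m' → π ⟨h * m * h⁻¹, hM.conj_mem m m.2 h⟩ =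
      π ⟨h * m' * h⁻¹, hM.conj_mem m' m'.2 h⟩ := by
    intro h m m' e
    have h1 := div_mem hπ hπ0 e
    have h2 : (⟨h * m * h⁻¹, hM.conj_mem m m.2 h⟩ : M) =
        ⟨h * (m * (m' : H)⁻¹) * h⁻¹, hM.conj_mem _ (M.mul_mem m.2 (M.inv_mem m'.2)) h⟩ *
          ⟨h * m' * h⁻¹, hM.conj_mem m' m'.2 h⟩ := by
      apply Subtype.ext
      change h * m * h⁻¹ = (h * (m * (m' : H)⁻¹) * h⁻¹) * (h * m' * h⁻¹)
      group
    rw [h2, hπ, (hπ0 _).2 (hA.conj_mem _ h1 h), zero_add]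
  choose s hs using hπs
  let a : H → ((Fin k → ZMod r) →ₗ[ZMod r] (Fin k → ZMod r)) := fun h =>
    (AddMonoidHom.mk' (fun v => π ⟨h * s v * h⁻¹, hM.conj_mem _ (s v).2 h⟩) (by
      intro u v
      rw [← hπ]
      have h1 := key h (s (u + v)) (s u * s v) (by rw [hπ, hs, hs, hs])
      rw [h1]
      congr 1
      apply Subtype.ext
      change h * ((s u : H) * (s v : H)) * h⁻¹ = (h * s u * h⁻¹) * (h * s v * h⁻¹)
      group)).toZModLinearMap r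
  have ha : ∀ (h : H) (m : M), a h (π m) = π ⟨h * m * h⁻¹, hM.conj_mem m m.2 h⟩ := fun h m => key h _ _ (hs _)
  let T : H →* Module.End (ZMod r) (Fin k → ZMod r) :=
    { toFun := a
      map_one' := by
        apply LinearMap.ext
        intro v
        rw [← hs v, ha, Module.End.one_apply]
        congr 1
        apply Subtype.ext
        change 1 * (s v : H) * 1⁻¹ = s v
        group
      map_mul' := by
        intro x y
        apply LinearMap.ext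
        intro v
        rw [Module.End.mul_apply, ← hs v, ha, ha, ha]
        congr 1
        apply Subtype.ext
        change x * y * (s v : H) * (x * y)⁻¹ = x * (y * s v * y⁻¹) * x⁻¹
        group }
  refine ⟨(LinearMap.GeneralLinearGroup.generalLinearEquiv (ZMod r) (Fin k → ZMod r)).toMonoidHom.comp
    T.toHomUnits, ?_⟩
  intro h m
  exact ha h m

end

end Cfsg.Agent.H193.KGL
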